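import Cfsg.Agent.EqLemmas
import Mathlib.RingTheory.Spectrum.Prime.Chevalley
import Mathlib.RingTheory.AlgebraicIndependent.TranscendenceBasis
import Mathlib.RingTheory.AlgebraicIndependent.Transcendental
import Mathlib.RingTheory.Nullstellensatz

/-!
# Images of polynomial maps

`exists_extension` : for an injective map of finitely generated domains over an algebraically closed field, the
points outside a hypersurface extend.
`injective_of_algebraic` : an endomorphism of such a domain with algebraic image extension is injective.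
-/

set_option autoImplicit false

namespace Cfsg.Agent.Lang

variable {K : Type*} [Field K] [IsAlgClosed K]

/-- A maximal ideal of a finitely generated algebra has residue field `K`. -/
theorem exists_point {S : Type*} [CommRing S] [Algebra K S] [Algebra.FiniteType K S] (M : Ideal S)
    [M.IsMaximal] : ∃ χ : S →ₐ[K] K, RingHom.ker χ = M := by
  let : Field (S ⧸ M) := Ideal.Quotient.field M
  have : Algebra.FiniteType K (S ⧸ M) :=
    Algebra.FiniteType.of_surjective (Ideal.Quotient.mkₐ K M) Ideal.Quotient.mk_surjective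
  have : Module.Finite K (S ⧸ M) := finite_of_finite_type_of_isJacobsonRing K (S ⧸ M)
  have : Algebra.IsIntegral K (S ⧸ M) := inferInstance
  let e : K ≃ₐ[K] (S ⧸ M) := AlgEquiv.ofBijective (Algebra.ofId K (S ⧸ M))
    IsAlgClosed.algebraMap_bijective_of_isIntegral
  refine ⟨e.symm.toAlgHom.comp (Ideal.Quotient.mkₐ K M), ?_⟩
  ext x
  simp [RingHom.mem_ker, Ideal.Quotient.eq_zero_iff_mem]

/-- Points outside a hypersurface extend along an injective map. -/
theorem exists_extension {R S : Type*} [CommRing R] [IsDomain R] [Algebra K R] [Algebra.FiniteType K R]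
    [CommRing S] [IsDomain S] [Algebra K S] [Algebra.FiniteType K S] (f : R →ₐ[K] S)
    (hf : Function.Injective f) :
    ∃ h : R, h ≠ 0 ∧ ∀ χ : R →ₐ[K] K, χ h ≠ 0 → ∃ χ' : S →ₐ[K] K, χ'.comp f = χ := by
  classical
  have : IsNoetherianRing R := Algebra.FiniteType.isNoetherianRing K R
  have hfp : (f : R →+* S).FinitePresentation := by
    refine RingHom.FinitePresentation.of_finiteType.1 ?_
    letI := (f : R →+* S).toAlgebra
    have : IsScalarTower K R S := IsScalarTower.of_algHom f
    exact RingHom.finiteType_algebraMap.2 (Algebra.FiniteType.of_restrictScalars_finiteType K R S)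
  obtain ⟨C, hC⟩ := PrimeSpectrum.exists_constructibleSetData_iff.2
    (PrimeSpectrum.isConstructible_range_comap hfp)
  let η : PrimeSpectrum R := ⟨⊥, Ideal.isPrime_bot⟩
  have hη : η ∈ C.toSet := by
    rw [hC]
    refine ⟨⟨⊥, Ideal.isPrime_bot⟩, PrimeSpectrum.ext ?_⟩
    exact Ideal.comap_bot_of_injective _ hf
  simp only [PrimeSpectrum.ConstructibleSetData.toSet, Set.mem_iUnion] at hη
  obtain ⟨c, hc, hg, hcf⟩ := hη
  refine ⟨c.f, fun h0 => hcf ?_, fun χ hχ => ?_⟩
  · simp [h0]
  · haveI hmax : (RingHom.ker χ).IsMaximal :=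
      RingHom.ker_isMaximal_of_surjective χ fun k => ⟨algebraMap K R k, χ.commutes k⟩
    let P : PrimeSpectrum R := ⟨RingHom.ker χ, hmax.isPrime⟩
    have hP : P ∈ C.toSet := by
      simp only [PrimeSpectrum.ConstructibleSetData.toSet, Set.mem_iUnion]
      refine ⟨c, hc, ?_, ?_⟩
      · intro x hx
        have := hg hx
        simp only [SetLike.mem_coe] at this ⊢
        rw [show x = 0 from this]
        exact P.asIdeal.zero_mem
      · simp only [PrimeSpectrum.mem_zeroLocus, Set.singleton_subset_iff, SetLike.mem_coe]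
        exact hχ
    rw [hC] at hP
    obtain ⟨Q, hQ⟩ := hP
    obtain ⟨M, hM, hQM⟩ := Ideal.exists_le_maximal Q.asIdeal Q.isPrime.ne_top
    obtain ⟨χ', hχ'⟩ := exists_point (K := K) M
    refine ⟨χ', AlgHom.ext fun x => ?_⟩
    have hle : RingHom.ker χ ≤ RingHom.ker (χ'.comp f) := by
      intro y hy
      have h1 : y ∈ P.asIdeal := hy
      rw [← hQ] at h1
      have h2 : f y ∈ M := hQM h1
      rw [← hχ'] at h2
      exact h2
    have h3 : x - algebraMap K R (χ x) ∈ RingHom.ker χ := by simp [RingHom.mem_ker]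
    have h4 : (χ'.comp f) (x - algebraMap K R (χ x)) = 0 := hle h3
    rw [map_sub, AlgHom.commutes, sub_eq_zero] at h4
    exact h4

open Cardinal in
/-- An endomorphism with algebraic image extension is injective. -/
theorem injective_of_algebraic {A : Type*} [CommRing A] [IsDomain A] [Algebra K A]
    (hfin : Algebra.trdeg K A < ℵ₀) (ψ : A →ₐ[K] A) (halg : ∀ a : A, IsAlgebraic ↥ψ.range a) :
    Function.Injective ψ := by
  rw [injective_iff_map_eq_zero]
  intro a ha
  by_contra ha0
  have : Algebra.IsAlgebraic ↥ψ.range A := ⟨halg⟩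
  obtain ⟨s, hs⟩ := exists_isTranscendenceBasis K ↥ψ.range
  have hcard : #s = Algebra.trdeg K A := by
    rw [hs.cardinalMk_eq_trdeg, ← trdeg_add_eq K ↥ψ.range (A := A), trdeg_eq_zero (R := ↥ψ.range) (A := A), add_zero]
  have hmem : ∀ i : s, ∃ y : A, ψ y = ((i : ↥ψ.range) : A) := fun i => (i : ↥ψ.range).2
  choose y hy using hmem
  have hy' : AlgebraicIndependent K (fun i : s => ((i : ↥ψ.range) : A)) :=
    hs.1.map' (f := ψ.range.val) Subtype.val_injective
  have hyind : AlgebraicIndependent K y := by
    refine AlgebraicIndependent.of_comp ψ ?_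
    simpa [Function.comp_def, hy] using hy'
  -- `ψ` is injective on the algebra generated by the preimages
  have hinj : ∀ z ∈ Algebra.adjoin K (Set.range y), ψ z = 0 → z = 0 := by
    intro z hz h0
    rw [Algebra.adjoin_range_eq_range_aeval] at hz
    obtain ⟨P, rfl⟩ := hz
    have h1 : MvPolynomial.aeval (fun i : s => ((i : ↥ψ.range) : A)) P = 0 := by
      rw [show (fun i : s => ((i : ↥ψ.range) : A)) = fun i => ψ (y i) from funext fun i => (hy i).symm,
        ← MvPolynomial.comp_aeval_apply]
      exact h0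
    have h2 : P = 0 := hy'.eq_zero_of_aeval_eq_zero P h1
    simp [h2]
  have htr : Transcendental ↥(Algebra.adjoin K (Set.range y)) a := by
    rintro ⟨p, hp0, hpa⟩
    obtain ⟨k, p', rfl, hp'⟩ : ∃ (k : ℕ) (p' : Polynomial ↥(Algebra.adjoin K (Set.range y))),
        p = Polynomial.X ^ k * p' ∧ p'.coeff 0 ≠ 0 := by
      obtain ⟨p', e, h⟩ := Polynomial.exists_eq_pow_rootMultiplicity_mul_and_not_dvd p hp0 0
      simp only [map_zero, sub_zero] at e h
      exact ⟨_, p', e, fun h0 => h (Polynomial.X_dvd_iff.2 h0)⟩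
    rw [map_mul, map_pow, Polynomial.aeval_X, mul_eq_zero, pow_eq_zero_iff'] at hpa
    have hpa' : Polynomial.aeval a p' = 0 := by tauto
    have e : ψ (Polynomial.aeval a p') = ψ ((p'.coeff 0 : ↥(Algebra.adjoin K (Set.range y))) : A) := by
      conv_lhs => rw [← Polynomial.X_mul_divX_add p']
      rw [map_add, map_mul, Polynomial.aeval_X, Polynomial.aeval_C, map_add, map_mul, ha, zero_mul, zero_add]
      rfl
    rw [hpa', map_zero] at e
    exact hp' (Subtype.ext (hinj _ (p'.coeff 0).2 e.symm))
  have hbig := (AlgebraicIndependent.option_iff.2 ⟨hyind, htr⟩).cardinalMk_le_trdeg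
  rw [mk_option, hcard] at hbig
  obtain ⟨n, hn⟩ := Cardinal.lt_aleph0.1 hfin
  rw [hn] at hbig
  exact absurd hbig (by exact_mod_cast Nat.not_succ_le_self n)

end Cfsg.Agent.Lang
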