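import Cfsg.Agent.EqLemmas
import Cfsg.Agent.Lib.Lang.Image
import Mathlib.RingTheory.Ideal.KrullsHeightTheorem
import Mathlib.RingTheory.Noetherian.Basic

/-!
# The Lang–Steinberg theorem for groups generated by one-parameter matrix groups

`lang`: if `Γ` is a group of matrices over an algebraically closed field of characteristic `p`, generated by
one-parameter groups given by polynomial matrices and stable under the `q`-power map, then every element of `Γ` is
`g⁻¹ g^{(q)}` for some `g ∈ Γ`.
-/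

set_option autoImplicit false

namespace Cfsg.Agent.Lang

open Matrix
open scoped Matrix

variable {K : Type*} [Field K] [IsAlgClosed K] {ι : Type*} [Fintype ι] [DecidableEq ι]

variable (K ι) in
/-- The coordinate ring of the space of matrices. -/
abbrev Pm := MvPolynomial (ι × ι) K

variable (K ι) in
/-- The generic matrix. -/
noncomputable def genMat : Matrix ι ι (Pm K ι) := Matrix.of fun i j => MvPolynomial.X (i, j)

/-- Evaluation at a matrix. -/
noncomputable def evM (M : Matrix ι ι K) : Pm K ι →ₐ[K] K := MvPolynomial.aeval fun ij => M ij.1 ij.2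

omit [IsAlgClosed K] [Fintype ι] [DecidableEq ι] in
theorem genMat_evM (M : Matrix ι ι K) : (genMat K ι).map (evM M) = M := by
  ext i j; simp [genMat, evM]

omit [IsAlgClosed K] [Fintype ι] [DecidableEq ι] in
theorem evM_inj {M N : Matrix ι ι K} (h : evM M = evM N) : M = N := by
  rw [← genMat_evM M, h, genMat_evM]

variable {J : Type*} (x : J → Matrix ι ι (Polynomial K))

/-- The value of a generator. -/
noncomputable def gval (j : J) (t : K) : Matrix ι ι K := (x j).map (Polynomial.eval t)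

/-- The matrices given by words with a prescribed sequence of generators. -/
def wset : List J → Set (Matrix ι ι K)
  | [] => {1}
  | j :: L => {M | ∃ t, ∃ N ∈ wset L, M = gval x j t * N}

/-- The generic word. -/
noncomputable def wordMat : (L : List J) → Matrix ι ι (MvPolynomial (Fin L.length) K)
  | [] => 1
  | j :: L =>
    (x j).map (Polynomial.aeval (R := K) (MvPolynomial.X (0 : Fin (L.length + 1)))) *
      (wordMat L).map (MvPolynomial.rename Fin.succ)

/-- The map on coordinate rings given by a word. -/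
noncomputable def wordMap (L : List J) : Pm K ι →ₐ[K] MvPolynomial (Fin L.length) K :=
  MvPolynomial.aeval fun ij => wordMat x L ij.1 ij.2

omit [IsAlgClosed K] in
theorem wordMat_eval : ∀ (L : List J) (τ : Fin L.length → K),
    (wordMat x L).map (MvPolynomial.aeval τ) ∈ wset x L
  | [], τ => by simp [wordMat, wset]
  | j :: L, τ => by
    refine ⟨τ (0 : Fin (L.length + 1)), _, wordMat_eval L (fun i => τ (Fin.succ i)), ?_⟩
    rw [wordMat, Matrix.map_mul, Matrix.map_map, Matrix.map_map]
    congr 1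
    · ext a b
      simp only [gval, Matrix.map_apply, Function.comp_apply]
      rw [← Polynomial.aeval_algHom_apply, MvPolynomial.aeval_X, Polynomial.coe_aeval_eq_eval]
    · ext a b
      simp only [Matrix.map_apply, Function.comp_apply, MvPolynomial.aeval_rename]
      rfl

omit [IsAlgClosed K] in
theorem exists_param : ∀ (L : List J) {M : Matrix ι ι K}, M ∈ wset x L →
    ∃ τ : Fin L.length → K, (wordMat x L).map (MvPolynomial.aeval τ) = M
  | [], M, h => ⟨fun i => i.elim0, by rw [show M = 1 from h]; simp [wordMat]⟩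
  | j :: L, M, h => by
    obtain ⟨t, N, hN, rfl⟩ := h
    obtain ⟨τ, rfl⟩ := exists_param L hN
    refine ⟨Fin.cons t τ, ?_⟩
    rw [wordMat, Matrix.map_mul, Matrix.map_map, Matrix.map_map]
    congr 1
    · ext a b
      simp only [gval, Matrix.map_apply, Function.comp_apply]
      rw [← Polynomial.aeval_algHom_apply, MvPolynomial.aeval_X, Polynomial.coe_aeval_eq_eval]
      simp
    · ext a b
      simp only [Matrix.map_apply, Function.comp_apply, MvPolynomial.aeval_rename]
      rfl

omit [IsAlgClosed K] [Fintype ι] [DecidableEq ι] in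
theorem evM_map {L : ℕ} (W : Matrix ι ι (MvPolynomial (Fin L) K)) (τ : Fin L → K) (f : Pm K ι) :
    evM (W.map (MvPolynomial.aeval τ)) f =
      MvPolynomial.aeval τ (MvPolynomial.aeval (fun ij : ι × ι => W ij.1 ij.2) f) := by
  rw [evM, MvPolynomial.comp_aeval_apply]
  rfl

theorem mem_ker_wordMap {L : List J} {f : Pm K ι} :
    f ∈ RingHom.ker (wordMap x L) ↔ ∀ M ∈ wset x L, evM M f = 0 := by
  rw [RingHom.mem_ker]
  constructor
  · intro h M hM
    obtain ⟨τ, rfl⟩ := exists_param x L hM
    rw [evM_map]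
    show MvPolynomial.aeval τ (wordMap x L f) = 0
    rw [h, map_zero]
  · intro h
    refine MvPolynomial.funext fun τ => ?_
    rw [map_zero]
    have := h _ (wordMat_eval x L τ)
    rw [evM_map] at this
    exact this

variable (Γ : Subgroup (GL ι K)) (hmem : ∀ j t, ∃ g ∈ Γ, (g : Matrix ι ι K) = gval x j t)
  (hone : ∀ j, gval x j 0 = 1) (hgen : ∀ g ∈ Γ, ∃ L, (g : Matrix ι ι K) ∈ wset x L)

omit [IsAlgClosed K] in
include hmem in
theorem exists_mem_of_wset : ∀ (L : List J) {M : Matrix ι ι K}, M ∈ wset x L →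
    ∃ g ∈ Γ, (g : Matrix ι ι K) = M
  | [], M, h => ⟨1, one_mem _, by rw [show M = 1 from h]; rfl⟩
  | j :: L, M, h => by
    obtain ⟨t, N, hN, rfl⟩ := h
    obtain ⟨g, hg, e⟩ := hmem j t
    obtain ⟨g', hg', e'⟩ := exists_mem_of_wset L hN
    exact ⟨g * g', mul_mem hg hg', by rw [Units.val_mul, e, e']⟩

omit [IsAlgClosed K] in
include hone in
theorem one_mem_wset : ∀ L : List J, (1 : Matrix ι ι K) ∈ wset x L
  | [] => rfl
  | j :: L => ⟨0, 1, one_mem_wset L, by rw [hone, one_mul]⟩

omit [IsAlgClosed K] in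
theorem mul_mem_wset : ∀ (L L' : List J) {M N : Matrix ι ι K}, M ∈ wset x L → N ∈ wset x L' →
    M * N ∈ wset x (L ++ L')
  | [], L', M, N, h, h' => by rw [show M = 1 from h, one_mul]; exact h'
  | j :: L, L', M, N, h, h' => by
    obtain ⟨t, M', hM', rfl⟩ := h
    exact ⟨t, M' * N, mul_mem_wset L L' hM' h', mul_assoc _ _ _⟩

omit [IsAlgClosed K] in
/-- The vanishing ideal of the group. -/
noncomputable def vanIdeal : Ideal (Pm K ι) := ⨅ g ∈ Γ, RingHom.ker (evM (g : Matrix ι ι K))

omit [IsAlgClosed K] in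
theorem mem_vanIdeal {f : Pm K ι} : f ∈ vanIdeal Γ ↔ ∀ g ∈ Γ, evM (g : Matrix ι ι K) f = 0 := by
  simp [vanIdeal, Submodule.mem_iInf]

include hmem hone hgen in
theorem exists_word : ∃ L : List J, vanIdeal Γ = RingHom.ker (wordMap x L) := by
  have hprime : ∀ L : List J, (RingHom.ker (wordMap x L)).IsPrime := fun L => RingHom.ker_isPrime _
  let L₀ := Function.argmin (fun L : List J => (RingHom.ker (wordMap x L)).height)
  refine ⟨L₀, le_antisymm (fun f hf => ?_) fun f hf => ?_⟩
  · rw [mem_ker_wordMap]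
    intro M hM
    obtain ⟨g, hg, rfl⟩ := exists_mem_of_wset x Γ hmem L₀ hM
    exact (mem_vanIdeal Γ).1 hf g hg
  · rw [mem_vanIdeal]
    intro g hg
    obtain ⟨L, hL⟩ := hgen g hg
    have hle : RingHom.ker (wordMap x (L₀ ++ L)) ≤ RingHom.ker (wordMap x L₀) := fun f hf => by
      rw [mem_ker_wordMap] at hf ⊢
      intro M hM
      rw [← mul_one M]
      exact hf _ (mul_mem_wset x _ _ hM (one_mem_wset x hone L))
    have heq : RingHom.ker (wordMap x (L₀ ++ L)) = RingHom.ker (wordMap x L₀) := by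
      have := hprime (L₀ ++ L)
      have := hprime L₀
      refine eq_of_le_of_not_lt hle fun hlt => ?_
      exact not_lt.2 (Function.argmin_le (fun L : List J => (RingHom.ker (wordMap x L)).height) (L₀ ++ L))
        (Ideal.height_strict_mono_of_isPrime hlt)
    rw [← heq, mem_ker_wordMap] at hf
    have := hf _ (mul_mem_wset x _ _ (one_mem_wset x hone L₀) hL)
    rwa [one_mul] at this

include hmem hone hgen in
theorem det_eq_one {g : GL ι K} (hg : g ∈ Γ) : (g : Matrix ι ι K).det = 1 := by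
  obtain ⟨L, hL⟩ := hgen g hg
  have key : ∀ j t, (gval x j t).det = 1 := by
    intro j t
    have hev : ∀ s, (gval x j s).det = (x j).det.eval s := fun s =>
      ((Polynomial.evalRingHom s).map_det (x j)).symm
    have hdeg : (x j).det.degree ≤ 0 := by
      by_contra h
      obtain ⟨s, hs⟩ := IsAlgClosed.exists_root _ (by
        intro e; exact h (le_of_eq e))
      obtain ⟨u, -, hu⟩ := hmem j s
      have h0 : (gval x j s).det = 0 := by rw [hev]; exact hs
      rw [← hu] at h0
      exact (Matrix.GeneralLinearGroup.det u).ne_zero h0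
    rw [hev, Polynomial.eq_C_of_degree_le_zero hdeg, Polynomial.eval_C]
    have := hev 0
    rw [hone, det_one, Polynomial.eq_C_of_degree_le_zero hdeg, Polynomial.eval_C] at this
    exact this.symm
  have : ∀ (L : List J) (M : Matrix ι ι K), M ∈ wset x L → M.det = 1 := by
    intro L
    induction L with
    | nil => intro M hM; rw [show M = 1 from hM, det_one]
    | cons j L ih =>
      rintro _ ⟨t, N, hN, rfl⟩
      rw [det_mul, key, ih N hN, one_mul]
  exact this L _ hL

omit [IsAlgClosed K] in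
theorem finite_fixed_field (q : ℕ) (hq : 2 ≤ q) : {c : K | c ^ q = c}.Finite := by
  have hP : (Polynomial.X ^ q - Polynomial.X : Polynomial K) ≠ 0 := by
    intro h
    have := congrArg (fun P : Polynomial K => P.coeff q) h
    simp [Polynomial.coeff_X, show 1 ≠ q by omega] at this
  refine (Polynomial.finite_setOfPred_isRoot hP).subset fun c hc => ?_
  simpa [Polynomial.IsRoot, sub_eq_zero] using hc

omit [IsAlgClosed K] in
/-- Twisted Frobenius maps have finitely many fixed vectors. -/
theorem finite_fixed {κ : Type*} [Finite κ] (σ : K →+* K) {q : ℕ} (hq : 2 ≤ q) (hσ : ∀ z, σ z = z ^ q)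
    (T : (κ → K) →ₛₗ[σ] (κ → K)) (hT : Function.Injective T) : {v : κ → K | T v = v}.Finite := by
  classical
  obtain ⟨b, hbsub, hspan, hli⟩ := exists_linearIndependent K {v : κ → K | T v = v}
  have : Finite b := hli.finite
  have := Fintype.ofFinite b
  have : Finite {c : K | c ^ q = c} := (finite_fixed_field q hq).to_subtype
  refine Set.Finite.subset (Set.finite_range fun c : b → {c : K | c ^ q = c} =>
    ∑ i, (c i : K) • (i : κ → K)) fun v hv => ?_
  have hmem : v ∈ Submodule.span K (Set.range ((↑) : b → (κ → K))) := by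
    rw [Subtype.range_coe, hspan]; exact Submodule.subset_span hv
  obtain ⟨c, hc⟩ := (Submodule.mem_span_range_iff_exists_fun K).1 hmem
  have hTv : T v = ∑ i, σ (c i) • (i : κ → K) := by
    rw [← hc, map_sum]
    exact Finset.sum_congr rfl fun i _ => by rw [LinearMap.map_smulₛₗ, hbsub i.2]
  have heq : ∀ i, σ (c i) = c i := fun i =>
    hli.eq_coords_of_eq (f := fun i => σ (c i)) (g := c) (by rw [← hTv, hc]; exact hv) i
  exact ⟨fun i => ⟨c i, show c i ^ q = c i by rw [← hσ]; exact heq i⟩, hc⟩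

variable (σ : K →+* K) {q : ℕ}

/-- `g ↦ g⁻¹ n g^{(q)}` on coordinates. -/
noncomputable def twist (n : Matrix ι ι K) (q : ℕ) : Pm K ι →ₐ[K] Pm K ι :=
  MvPolynomial.aeval fun ij =>
    ((genMat K ι).adjugate * n.map (algebraMap K (Pm K ι)) *
      (Matrix.of fun a b => (MvPolynomial.X (a, b) : Pm K ι) ^ q)) ij.1 ij.2

omit [IsAlgClosed K] in
theorem twist_evM (hσ : ∀ z, σ z = z ^ q) (n : Matrix ι ι K) (M : Matrix ι ι K) :
    (evM M).comp (twist n q) = evM (M.adjugate * n * M.map σ) := by
  refine MvPolynomial.algHom_ext fun ij => ?_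
  have h : ((genMat K ι).adjugate * n.map (algebraMap K (Pm K ι)) *
      (Matrix.of fun a b => (MvPolynomial.X (a, b) : Pm K ι) ^ q)).map (evM M) =
      M.adjugate * n * M.map σ := by
    rw [Matrix.map_mul, Matrix.map_mul]
    congr 1
    · congr 1
      · conv_rhs => rw [← genMat_evM M]
        exact (AlgHom.map_adjugate (evM M) (genMat K ι))
      · ext a b; simp
    · ext a b; simp [evM, hσ]
  rw [AlgHom.comp_apply, twist, MvPolynomial.aeval_X]
  conv_rhs => rw [evM, MvPolynomial.aeval_X]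
  exact congrFun (congrFun h ij.1) ij.2

omit [IsAlgClosed K] in
theorem adjugate_mul_of_det {M : Matrix ι ι K} (h : M.det = 1) : M.adjugate * M = 1 ∧ M * M.adjugate = 1 := by
  rw [Matrix.adjugate_mul, Matrix.mul_adjugate, h, one_smul]; exact ⟨rfl, rfl⟩

/-- The twisted Frobenius map on matrices. -/
noncomputable def twistT (m : GL ι K) : ((ι × ι) → K) →ₛₗ[σ] ((ι × ι) → K) where
  toFun v ij := ((m : Matrix ι ι K) * (Matrix.of fun a b => σ (v (a, b))) *
    ((m⁻¹ : GL ι K) : Matrix ι ι K)) ij.1 ij.2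
  map_add' u v := by
    funext ij
    have : (Matrix.of fun a b => σ ((u + v) (a, b))) =
        (Matrix.of fun a b => σ (u (a, b))) + (Matrix.of fun a b => σ (v (a, b))) := by
      ext a b; simp
    rw [this]
    simp only [mul_add, add_mul, Matrix.add_apply, Pi.add_apply]
  map_smul' c v := by
    funext ij
    have : (Matrix.of fun a b => σ ((c • v) (a, b))) = σ c • (Matrix.of fun a b => σ (v (a, b))) := by
      ext a b; simp
    rw [this]
    simp only [Matrix.mul_smul, Matrix.smul_mul, Matrix.smul_apply, Pi.smul_apply]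

omit [IsAlgClosed K] in
theorem twistT_injective (m : GL ι K) : Function.Injective (twistT σ m) := by
  intro u v e
  have h : (m : Matrix ι ι K) * (Matrix.of fun a b => σ (u (a, b))) * ((m⁻¹ : GL ι K) : Matrix ι ι K) =
      (m : Matrix ι ι K) * (Matrix.of fun a b => σ (v (a, b))) * ((m⁻¹ : GL ι K) : Matrix ι ι K) := by
    ext a b; exact congrFun e (a, b)
  have h1 : m.val * (Matrix.of fun a b => σ (u (a, b))) = m.val * (Matrix.of fun a b => σ (v (a, b))) :=
    (Units.mul_left_inj m⁻¹).1 h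
  have h2 := (Units.mul_right_inj m).1 h1
  funext ij
  exact σ.injective (congrFun (congrFun h2 ij.1) ij.2)

omit [IsAlgClosed K] in
/-- The twisted map has finite fibres on matrices of determinant one. -/
theorem finite_fibre (hq : 2 ≤ q) (hσ : ∀ z, σ z = z ^ q) (m : GL ι K) (M₀ : Matrix ι ι K) :
    {M : Matrix ι ι K | M.det = 1 ∧ M.adjugate * (m : Matrix ι ι K) * M.map σ = M₀}.Finite := by
  set S := {M : Matrix ι ι K | M.det = 1 ∧ M.adjugate * (m : Matrix ι ι K) * M.map σ = M₀}
  rcases S.eq_empty_or_nonempty with h | ⟨M₁, hM₁, e₁⟩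
  · rw [h]; exact Set.finite_empty
  have hB := adjugate_mul_of_det hM₁
  refine Set.Finite.of_finite_image (f := fun M => fun ij : ι × ι => (M * M₁.adjugate) ij.1 ij.2) ?_ ?_
  · refine (finite_fixed σ hq hσ (twistT σ m) (twistT_injective σ m)).subset ?_
    rintro _ ⟨M, ⟨hM, e⟩, rfl⟩
    have hA := adjugate_mul_of_det hM
    have hBσ : M₁.map σ * M₁.adjugate.map σ = 1 := by
      rw [← Matrix.map_mul, hB.2, Matrix.map_one _ (map_zero σ) (map_one σ)]
    have key : (m : Matrix ι ι K) * (M * M₁.adjugate).map σ * ((m⁻¹ : GL ι K) : Matrix ι ι K) =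
        M * M₁.adjugate := by
      calc (m : Matrix ι ι K) * (M * M₁.adjugate).map σ * ((m⁻¹ : GL ι K) : Matrix ι ι K)
          = M * (M.adjugate * (m : Matrix ι ι K) * M.map σ) * M₁.adjugate.map σ *
              ((m⁻¹ : GL ι K) : Matrix ι ι K) := by
            rw [Matrix.map_mul]
            simp only [← Matrix.mul_assoc, hA.2, Matrix.one_mul]
        _ = M * (M₁.adjugate * (m : Matrix ι ι K)) * (M₁.map σ * M₁.adjugate.map σ) *
              ((m⁻¹ : GL ι K) : Matrix ι ι K) := by
            rw [e, ← e₁]; simp only [Matrix.mul_assoc]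
        _ = M * M₁.adjugate := by
            rw [hBσ, Matrix.mul_one]; simp [Matrix.mul_assoc]
    funext ij
    exact congrFun (congrFun key ij.1) ij.2
  · intro M _ M' _ e
    have e' : M * M₁.adjugate = M' * M₁.adjugate := by
      ext a b; exact congrFun e (a, b)
    have h3 := congrArg (· * M₁) e'
    simpa only [Matrix.mul_assoc, hB.1, Matrix.mul_one] using h3

/-- An endomorphism with finite fibres on points has algebraic image extension. -/
theorem algebraic_of_finite_fibres {A : Type*} [CommRing A] [IsDomain A] [Algebra K A]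
    [Algebra.FiniteType K A] {k : ℕ} (φ : A →ₐ[K] MvPolynomial (Fin k) K) (hφ : Function.Injective φ)
    (ψ : A →ₐ[K] A) (hfib : ∀ χ₀ : A →ₐ[K] K, {χ : A →ₐ[K] K | χ.comp ψ = χ₀}.Finite) (a : A) :
    IsAlgebraic ↥ψ.range a := by
  by_contra ha
  have : Algebra.FiniteType K ↥ψ.range :=
    Algebra.FiniteType.of_surjective ψ.rangeRestrict ψ.rangeRestrict_surjective
  let θ : Polynomial ↥ψ.range →ₐ[K] A := (Polynomial.aeval a).restrictScalars K
  have hθ : Function.Injective θ := transcendental_iff_injective.1 ha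
  have : Algebra.FiniteType K (Polynomial ↥ψ.range) := Algebra.FiniteType.trans
    (inferInstance : Algebra.FiniteType K ↥ψ.range) inferInstance
  obtain ⟨h, hh, hext⟩ := exists_extension θ hθ
  have hlc : φ (h.leadingCoeff : A) ≠ 0 := fun e0 =>
    Polynomial.leadingCoeff_ne_zero.2 hh (Subtype.ext (hφ (e0.trans (map_zero φ).symm)))
  obtain ⟨τ, hτ⟩ : ∃ τ : Fin k → K, (MvPolynomial.aeval τ (φ (h.leadingCoeff : A)) : K) ≠ 0 := by
    by_contra hall
    push Not at hall
    exact hlc (MvPolynomial.funext fun τ => by rw [map_zero]; exact hall τ)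
  let χB : ↥ψ.range →ₐ[K] K := ((MvPolynomial.aeval τ).comp φ).comp ψ.range.val
  let χ₁ : A →ₐ[K] K := ((MvPolynomial.aeval τ).comp φ)
  have hhb : h.map (χB : ↥ψ.range →+* K) ≠ 0 := by
    intro e0
    have := congrArg (fun P => P.coeff h.natDegree) e0
    simp only [Polynomial.coeff_map, Polynomial.coeff_natDegree, Polynomial.coeff_zero] at this
    exact hτ this
  have hinf : ({t : K | (h.map (χB : ↥ψ.range →+* K)).eval t ≠ 0}).Infinite :=
    ((Polynomial.finite_setOfPred_isRoot hhb).infinite_compl).mono fun t ht => ht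
  let χt : K → Polynomial ↥ψ.range →ₐ[K] K := fun t =>
    ((Polynomial.aeval t).restrictScalars K).comp (Polynomial.mapAlgHom χB)
  have hext' : ∀ t ∈ {t : K | (h.map (χB : ↥ψ.range →+* K)).eval t ≠ 0},
      ∃ χ' : A →ₐ[K] K, χ'.comp θ = χt t := fun t ht => hext (χt t) (by
        simp only [χt, AlgHom.comp_apply, AlgHom.restrictScalars_apply, Polynomial.coe_mapAlgHom,
          Polynomial.coe_aeval_eq_eval]
        exact ht)
  have : Nonempty (A →ₐ[K] K) := ⟨χ₁⟩
  choose! ext he using hext'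
  refine (hinf.image ?_) ((hfib (χB.comp ψ.rangeRestrict)).subset (t := ext '' _) ?_)
  · intro s hs t ht e
    have h5 := (AlgHom.congr_fun (he s hs) Polynomial.X).symm.trans
      ((congrArg (fun c : A →ₐ[K] K => c (θ Polynomial.X)) e).trans (AlgHom.congr_fun (he t ht) Polynomial.X))
    simpa [χt] using h5
  · rintro _ ⟨t, ht, rfl⟩
    refine AlgHom.ext fun b => ?_
    have h6 := AlgHom.congr_fun (he t ht) (Polynomial.C (ψ.rangeRestrict b))
    simpa [χt, θ] using h6

include hmem hone hgen in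
/-- The Lang–Steinberg theorem. -/
theorem lang {p f : ℕ} [Fact p.Prime] [CharP K p] (hf : 1 ≤ f) (hqf : q = p ^ f) (hσ : ∀ z, σ z = z ^ q)
    (hstab : ∀ g ∈ Γ, ∃ g' ∈ Γ, (g' : Matrix ι ι K) = (g : Matrix ι ι K).map σ)
    {n : GL ι K} (hn : n ∈ Γ) :
    ∃ g ∈ Γ, (g : Matrix ι ι K).map σ = (g : Matrix ι ι K) * (n : Matrix ι ι K) := by
  classical
  have hq : 2 ≤ q := hqf ▸ (Fact.out : p.Prime).two_le.trans (Nat.le_self_pow (by omega) p)
  obtain ⟨L, hL⟩ := exists_word x Γ hmem hone hgen
  have hI : (vanIdeal Γ).IsPrime := hL ▸ RingHom.ker_isPrime _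
  let A := Pm K ι ⧸ vanIdeal Γ
  let pr : Pm K ι →ₐ[K] A := Ideal.Quotient.mkₐ K (vanIdeal Γ)
  let T := MvPolynomial (Fin L.length) K
  let φ : A →ₐ[K] T := Ideal.Quotient.liftₐ (vanIdeal Γ) (wordMap x L) fun a ha => by
    rw [hL] at ha; exact ha
  have hφ : Function.Injective φ := by
    rw [injective_iff_map_eq_zero]
    intro a ha
    obtain ⟨a, rfl⟩ := Ideal.Quotient.mk_surjective a
    have ha' : wordMap x L a = 0 := ha
    rw [Ideal.Quotient.eq_zero_iff_mem, hL]
    exact ha'
  have hpt : ∀ τ : Fin L.length → K, ∃ g ∈ Γ,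
      ((MvPolynomial.aeval τ).comp φ).comp pr = evM (g : Matrix ι ι K) := by
    intro τ
    obtain ⟨g, hg, e⟩ := exists_mem_of_wset x Γ hmem L (wordMat_eval x L τ)
    refine ⟨g, hg, ?_⟩
    rw [e]
    refine AlgHom.ext fun a => ?_
    rw [evM_map]
    rfl
  have hdet : (genMat K ι).det - 1 ∈ vanIdeal Γ := by
    rw [mem_vanIdeal]
    intro g hg
    rw [map_sub, map_one, AlgHom.map_det, AlgHom.mapMatrix_apply, genMat_evM,
      det_eq_one x Γ hmem hone hgen hg, sub_self]
  have hchi : ∀ χ : A →ₐ[K] K, ∃ M : Matrix ι ι K, M.det = 1 ∧ χ.comp pr = evM M := by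
    intro χ
    have e : χ.comp pr = evM ((genMat K ι).map (χ.comp pr)) :=
      MvPolynomial.algHom_ext fun ij => by simp [evM, genMat]
    refine ⟨_, ?_, e⟩
    have h1 : (χ.comp pr) ((genMat K ι).det - 1) = 0 := by
      rw [AlgHom.comp_apply, show pr ((genMat K ι).det - 1) = 0 from Ideal.Quotient.eq_zero_iff_mem.2 hdet,
        map_zero]
    rw [map_sub, map_one, sub_eq_zero, AlgHom.map_det, AlgHom.mapMatrix_apply] at h1
    exact h1
  have main : ∀ m : GL ι K, m ∈ Γ → ∃ D : A, D ≠ 0 ∧ ∀ χ : A →ₐ[K] K, χ D ≠ 0 → ∃ g ∈ Γ,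
      χ.comp pr = evM ((g : Matrix ι ι K).adjugate * (m : Matrix ι ι K) * (g : Matrix ι ι K).map σ) := by
    intro m hm
    have hkill : ∀ a ∈ vanIdeal Γ, pr (twist (m : Matrix ι ι K) q a) = 0 := by
      intro a ha
      refine Ideal.Quotient.eq_zero_iff_mem.2 ((mem_vanIdeal Γ).2 fun g hg => ?_)
      obtain ⟨g', hg', e'⟩ := hstab g hg
      rw [← AlgHom.comp_apply, twist_evM σ hσ]
      have h1 := adjugate_mul_of_det (det_eq_one x Γ hmem hone hgen hg)
      have eg : ((g⁻¹ : GL ι K) : Matrix ι ι K) = (g : Matrix ι ι K).adjugate :=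
        Units.inv_eq_of_mul_eq_one_right h1.2
      have : (g : Matrix ι ι K).adjugate * (m : Matrix ι ι K) * (g : Matrix ι ι K).map σ =
          ((g⁻¹ * m * g' : GL ι K) : Matrix ι ι K) := by simp [eg, e']
      rw [this]
      exact (mem_vanIdeal Γ).1 ha _ (mul_mem (mul_mem (inv_mem hg) hm) hg')
    let ψ : A →ₐ[K] A := Ideal.Quotient.liftₐ (vanIdeal Γ) (pr.comp (twist (m : Matrix ι ι K) q)) hkill
    have hψ : ψ.comp pr = pr.comp (twist (m : Matrix ι ι K) q) := AlgHom.ext fun a => rfl
    have hfib : ∀ χ₀ : A →ₐ[K] K, {χ : A →ₐ[K] K | χ.comp ψ = χ₀}.Finite := by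
      intro χ₀
      choose Mf hMf eMf using hchi
      refine Set.Finite.of_finite_image (f := Mf)
        ((finite_fibre σ hq hσ m ((genMat K ι).map (χ₀.comp pr))).subset ?_) ?_
      · rintro _ ⟨χ, hχ, rfl⟩
        refine ⟨hMf χ, evM_inj ?_⟩
        rw [← twist_evM σ hσ, ← eMf, AlgHom.comp_assoc, ← hψ, ← AlgHom.comp_assoc, show χ.comp ψ = χ₀ from hχ]
        exact MvPolynomial.algHom_ext fun ij => by simp [evM, genMat]
      · intro χ _ χ' _ e
        have h4 : χ.comp pr = χ'.comp pr := by rw [eMf, eMf, e]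
        refine AlgHom.ext fun a => ?_
        obtain ⟨a, rfl⟩ := Ideal.Quotient.mk_surjective a
        exact AlgHom.congr_fun h4 a
    have htr : Algebra.trdeg K A < Cardinal.aleph0 := by
      have h1 := lift_trdeg_le_of_injective φ hφ
      have h2 : Algebra.trdeg K T < Cardinal.aleph0 := by
        simp only [T, MvPolynomial.trdeg_of_isDomain]
        simp
      rw [← Cardinal.lift_lt_aleph0]
      exact h1.trans_lt (Cardinal.lift_lt_aleph0.2 h2)
    have hψinj : Function.Injective ψ :=
      injective_of_algebraic htr ψ (algebraic_of_finite_fibres φ hφ ψ hfib)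
    have : Algebra.FiniteType K A := inferInstance
    obtain ⟨D, hD, hext⟩ := exists_extension (φ.comp ψ) (hφ.comp hψinj)
    refine ⟨D, hD, fun χ hχ => ?_⟩
    obtain ⟨χ', hχ'⟩ := hext χ hχ
    have : χ' = MvPolynomial.aeval fun i => χ' (MvPolynomial.X i) := MvPolynomial.aeval_unique χ'
    rw [this] at hχ'
    obtain ⟨g, hg, e⟩ := hpt fun i => χ' (MvPolynomial.X i)
    refine ⟨g, hg, ?_⟩
    rw [← hχ', ← AlgHom.comp_assoc, AlgHom.comp_assoc, hψ, ← AlgHom.comp_assoc, e, twist_evM σ hσ]
  obtain ⟨D₁, h1, e1⟩ := main 1 (one_mem _)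
  obtain ⟨D₂, h2, e2⟩ := main n hn
  have hne : φ (D₁ * D₂) ≠ 0 := fun e0 => mul_ne_zero h1 h2 (hφ (e0.trans (map_zero φ).symm))
  obtain ⟨τ, hτ⟩ : ∃ τ : Fin L.length → K, (MvPolynomial.aeval τ (φ (D₁ * D₂)) : K) ≠ 0 := by
    by_contra hall
    push Not at hall
    exact hne (MvPolynomial.funext fun τ => by rw [map_zero]; exact hall τ)
  let χ : A →ₐ[K] K := (MvPolynomial.aeval τ).comp φ
  have hχ : χ D₁ * χ D₂ ≠ 0 := by rw [← map_mul]; exact hτ
  obtain ⟨g, hg, eg⟩ := e1 χ (left_ne_zero_of_mul hχ)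
  obtain ⟨k, hk, ek⟩ := e2 χ (right_ne_zero_of_mul hχ)
  have h3 : (g : Matrix ι ι K).adjugate * (g : Matrix ι ι K).map σ =
      (k : Matrix ι ι K).adjugate * (n : Matrix ι ι K) * (k : Matrix ι ι K).map σ := by
    have := evM_inj (eg.symm.trans ek)
    simpa using this
  obtain ⟨g', -, eg'⟩ := hstab g hg
  obtain ⟨k', -, ek'⟩ := hstab k hk
  have inv_adj : ∀ z ∈ Γ, ((z⁻¹ : GL ι K) : Matrix ι ι K) = (z : Matrix ι ι K).adjugate := fun z hz =>
    Units.inv_eq_of_mul_eq_one_right (adjugate_mul_of_det (det_eq_one x Γ hmem hone hgen hz)).2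
  have h4 : g⁻¹ * g' = k⁻¹ * n * k' :=
    Units.ext (by simp only [Units.val_mul, inv_adj g hg, inv_adj k hk, eg', ek']; exact h3)
  refine ⟨g * k⁻¹, mul_mem hg (inv_mem hk), ?_⟩
  have h5 : ((g' * k'⁻¹ : GL ι K)) = g * k⁻¹ * n := by
    calc g' * k'⁻¹ = g * (g⁻¹ * g') * k'⁻¹ := by group
      _ = _ := by rw [h4]; group
  have hmap : ((g * k⁻¹ : GL ι K) : Matrix ι ι K).map σ = ((g' * k'⁻¹ : GL ι K) : Matrix ι ι K) := by
    rw [Units.val_mul, Units.val_mul, Matrix.map_mul, eg']
    congr 1
    refine (Units.inv_eq_of_mul_eq_one_right (u := k') ?_).symm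
    rw [ek', ← Matrix.map_mul, Units.mul_inv, Matrix.map_one _ (map_zero σ) (map_one σ)]
  rw [hmap, h5, Units.val_mul]

end Cfsg.Agent.Lang
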