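import Cfsg.Agent.EqLemmas

/-!
# The Lang–Steinberg theorem for `GL_n`

`exists_fixed` : an injective `q`-semilinear endomorphism of a nonzero finite-dimensional space over an
algebraically closed field of characteristic `p` (`q = p^f`, `f ≥ 1`) fixes a nonzero vector.
`span_fixed_eq_top` : its fixed vectors span.
-/

set_option autoImplicit false

namespace Cfsg.Agent.Lang

open Polynomial

variable {K : Type*} [Field K] (p f : ℕ) [Fact p.Prime] [CharP K p]

/-- The polynomial recursion for the coefficients of a fixed vector. -/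
noncomputable def recPoly (q : ℕ) (a : ℕ → K) : ℕ → K[X]
  | 0 => C (a 0) * X ^ q
  | i + 1 => recPoly q a i ^ q + C (a (i + 1)) * X ^ q

theorem derivative_recPoly (q : ℕ) (hq : (q : K) = 0) (a : ℕ → K) (i : ℕ) :
    derivative (recPoly q a i) = 0 := by
  have hC : (C (q : K) : K[X]) = 0 := by rw [hq, C_0]
  cases i <;> simp [recPoly, derivative_pow, hq]

theorem eval_zero_recPoly (q : ℕ) (hq : 2 ≤ q) (a : ℕ → K) (i : ℕ) :
    (recPoly q a i).eval 0 = 0 := by
  induction i with
  | zero => simp [recPoly, show q ≠ 0 by omega]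
  | succ i ih => simp [recPoly, ih, show q ≠ 0 by omega]

theorem natDegree_recPoly (q : ℕ) (hq : 2 ≤ q) (a : ℕ → K) (i : ℕ) :
    (recPoly q a i = 0 ∧ ∀ j ≤ i, a j = 0) ∨ q ≤ (recPoly q a i).natDegree := by
  induction i with
  | zero =>
    by_cases h : a 0 = 0
    · exact Or.inl ⟨by simp [recPoly, h], fun j hj => by rw [Nat.le_zero.1 hj, h]⟩
    · exact Or.inr (by simp [recPoly, natDegree_C_mul_X_pow q (a 0) h])
  | succ i ih =>
    rcases ih with ⟨h0, hall⟩ | hdeg
    · by_cases h : a (i + 1) = 0
      · refine Or.inl ⟨by simp [recPoly, h0, h, show q ≠ 0 by omega], fun j hj => ?_⟩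
        rcases Nat.lt_or_ge i j with hlt | hge
        · rw [show j = i + 1 by omega, h]
        · exact hall j hge
      · exact Or.inr (by
          simp [recPoly, h0, zero_pow (show q ≠ 0 by omega), natDegree_C_mul_X_pow q _ h])
    · right
      have h1 : (recPoly q a i ^ q).natDegree = q * (recPoly q a i).natDegree := natDegree_pow _ _
      have h2 : (C (a (i + 1)) * X ^ q).natDegree ≤ q := natDegree_C_mul_X_pow_le _ _
      have h3 : q * 2 ≤ q * (recPoly q a i).natDegree := Nat.mul_le_mul_left q (hq.trans hdeg)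
      rw [recPoly, natDegree_add_eq_left_of_natDegree_lt (by omega), h1]
      omega

variable [IsAlgClosed K]

theorem exists_nonzero_root (q : ℕ) (hq : 2 ≤ q) (hq0 : (q : K) = 0) (a : ℕ → K) (m : ℕ)
    (ha : ∃ j ≤ m, a j ≠ 0) : ∃ t : K, t ≠ 0 ∧ (recPoly q a m).eval t = t := by
  classical
  obtain ⟨j, hj, haj⟩ := ha
  have hdeg : q ≤ (recPoly q a m).natDegree := by
    rcases natDegree_recPoly q hq a m with ⟨-, hall⟩ | h
    · exact absurd (hall j hj) haj
    · exact h
  set P := recPoly q a m - X with hP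
  have hdP : P.natDegree = (recPoly q a m).natDegree :=
    natDegree_sub_eq_left_of_natDegree_lt (by rw [natDegree_X]; omega)
  have hsep : P.Separable := by
    rw [Polynomial.separable_def, hP, derivative_sub, derivative_recPoly q hq0, derivative_X, zero_sub]
    exact isCoprime_one_right.neg_right
  have hcard : P.roots.toFinset.card = P.natDegree := by
    rw [Multiset.toFinset_card_of_nodup (nodup_roots hsep), IsAlgClosed.card_roots_eq_natDegree]
  obtain ⟨t, ht, ht0⟩ := Finset.exists_mem_ne (show 1 < P.roots.toFinset.card by omega) 0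
  rw [Multiset.mem_toFinset] at ht
  refine ⟨t, ht0, ?_⟩
  have := (mem_roots (ne_zero_of_mem_roots ht)).1 ht
  simpa [IsRoot, hP, sub_eq_zero] using this

variable {V : Type*} [AddCommGroup V] [Module K V] [FiniteDimensional K V]

omit [IsAlgClosed K] in
theorem natCast_q_eq_zero (hf : 1 ≤ f) : ((p ^ f : ℕ) : K) = 0 := by
  rw [Nat.cast_pow, CharP.cast_eq_zero, zero_pow (by omega)]

omit [CharP K p] [IsAlgClosed K] in
theorem two_le_q (hf : 1 ≤ f) : 2 ≤ p ^ f :=
  le_trans (Fact.out : p.Prime).two_le (Nat.le_self_pow (by omega) p)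

theorem exists_fixed [Nontrivial V] (hf : 1 ≤ f) (T : V →ₛₗ[iterateFrobenius K p f] V)
    (hT : Function.Injective T) : ∃ v : V, v ≠ 0 ∧ T v = v := by
  classical
  obtain ⟨v0, hv0⟩ := exists_ne (0 : V)
  set v : ℕ → V := fun i => T^[i] v0 with hv
  have hvs : ∀ i, T (v i) = v (i + 1) := fun i => (Function.iterate_succ_apply' T i v0).symm
  have hex : ∃ k, v k ∈ Submodule.span K (v '' Set.Iio k) := by
    by_contra h
    push Not at h
    have hli : LinearIndependent K (fun i : Fin (Module.finrank K V + 1) => v i) := by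
      have : ∀ k, LinearIndependent K (fun i : Fin k => v i) := fun k => by
        induction k with
        | zero => exact linearIndependent_empty_type
        | succ k ih =>
          rw [linearIndependent_fin_succ']
          refine ⟨ih, ?_⟩
          have : Set.range (Fin.init fun i : Fin (k + 1) => v i) = v '' Set.Iio k := by
            ext x
            simp only [Set.mem_range, Set.mem_image, Set.mem_Iio, Fin.init, Fin.val_castSucc]
            exact ⟨fun ⟨i, hi⟩ => ⟨i, i.2, hi⟩, fun ⟨i, hi, hx⟩ => ⟨⟨i, hi⟩, hx⟩⟩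
          rw [this]
          exact h k
      exact this _
    have := hli.fintype_card_le_finrank
    simp at this
  set k := Nat.find hex with hk
  have hkspec := Nat.find_spec hex
  have hmin := fun {j} (hj : j < k) => Nat.find_min hex hj
  obtain ⟨m, hm⟩ : ∃ m, k = m + 1 := by
    refine ⟨k - 1, ?_⟩
    have : k ≠ 0 := fun h0 => hv0 <| by
      rw [← hk, h0] at hkspec
      simpa [hv] using hkspec
    omega
  rw [← hk, hm, ← Finset.coe_range,
    Submodule.mem_span_image_finset_iff_exists_fun'] at hkspec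
  obtain ⟨a, ha⟩ := hkspec
  set q := p ^ f with hqdef
  have hq : 2 ≤ q := two_le_q p f hf
  have haj : ∃ j ≤ m, a j ≠ 0 := by
    by_contra h
    push Not at h
    have h0 : v (m + 1) = 0 := by
      rw [← ha]
      exact Finset.sum_eq_zero fun j hj => by
        rw [h j (by simpa [Nat.lt_succ_iff] using hj), zero_smul]
    have : ∀ i, v i = 0 → i = 0 → False := fun i hi h' => hv0 (by simpa [hv, h'] using hi)
    have hzero : ∀ i, v i = 0 → v 0 = 0 := fun i => by
      induction i with
      | zero => exact id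
      | succ i ih =>
        intro hi
        rw [← hvs] at hi
        exact ih (hT (by rw [hi, map_zero]))
    exact this 0 (hzero _ h0) rfl
  obtain ⟨t, ht0, ht⟩ := exists_nonzero_root q hq (natCast_q_eq_zero p f hf) a m haj
  set b : ℕ → K := fun i => (recPoly q a i).eval t with hb
  refine ⟨∑ i ∈ Finset.range (m + 1), b i • v i, ?_, ?_⟩
  · intro h
    rw [Finset.sum_range_succ, add_comm, add_eq_zero_iff_eq_neg] at h
    apply hmin (show m < k by omega)
    have hbm : b m = t := ht
    rw [hbm] at h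
    have : v m = t⁻¹ • -∑ i ∈ Finset.range m, b i • v i := by
      rw [← h, inv_smul_smul₀ ht0]
    rw [this]
    refine Submodule.smul_mem _ _ (Submodule.neg_mem _ (Submodule.sum_mem _ fun i hi => ?_))
    exact Submodule.smul_mem _ _ (Submodule.subset_span ⟨i, Finset.mem_range.1 hi, rfl⟩)
  · have hb0 : b 0 = a 0 * t ^ q := by simp [hb, recPoly]
    have hbs : ∀ i, b (i + 1) = b i ^ q + a (i + 1) * t ^ q := by simp [hb, recPoly]
    have hbm : b m = t := ht
    rw [map_sum]
    simp only [LinearMap.map_smulₛₗ, hvs, iterateFrobenius_def]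
    rw [← hqdef, Finset.sum_range_succ, hbm, ← ha, Finset.smul_sum, Finset.sum_range_succ' (fun i => t ^ q • a i • v i),
      Finset.sum_range_succ' (fun i => b i • v i), hb0]
    simp only [hbs, add_smul, Finset.sum_add_distrib, mul_smul]
    rw [smul_comm (a 0)]
    simp only [smul_comm (t ^ q) (a _)]
    abel

/-- The fixed vectors of an injective semilinear endomorphism span. -/
theorem span_fixed_eq_top (hf : 1 ≤ f) (T : V →ₛₗ[iterateFrobenius K p f] V)
    (hT : Function.Injective T) : Submodule.span K {v | T v = v} = ⊤ := by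
  classical
  set W := Submodule.span K {v | T v = v} with hW
  have hq : 2 ≤ p ^ f := two_le_q p f hf
  have hstab : W ≤ W.comap T := Submodule.span_le.2 fun v hv => by
    show T v ∈ W
    rw [hv]
    exact Submodule.subset_span hv
  have hroot : ∀ c : K, ∃ a : K, a ^ (p ^ f) = c := fun c => IsAlgClosed.exists_pow_nat_eq c (by omega)
  have hAS : ∀ c : K, ∃ a : K, a ^ (p ^ f) - a = c := fun c => by
    have hd : (X ^ (p ^ f) - X - C c : K[X]).degree ≠ 0 := by
      rw [sub_sub, degree_sub_eq_left_of_degree_lt, degree_X_pow]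
      · exact_mod_cast (show p ^ f ≠ 0 by omega)
      · rw [degree_X_add_C, degree_X_pow]
        exact_mod_cast (show 1 < p ^ f by omega)
    obtain ⟨a, ha⟩ := IsAlgClosed.exists_root _ hd
    exact ⟨a, by simpa [sub_eq_zero] using ha⟩
  have hsurj : ∀ w ∈ W, (∃ y ∈ W, T y = w) ∧ (∃ y ∈ W, T y - y = w) := by
    intro w hw
    induction hw using Submodule.closure_induction with
    | zero => exact ⟨⟨0, W.zero_mem, map_zero T⟩, ⟨0, W.zero_mem, by simp⟩⟩
    | add x y _ _ hx hy =>
      obtain ⟨⟨a, ha, ha'⟩, ⟨c, hc, hc'⟩⟩ := hx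
      obtain ⟨⟨b, hb, hb'⟩, ⟨d, hd, hd'⟩⟩ := hy
      exact ⟨⟨a + b, W.add_mem ha hb, by rw [map_add, ha', hb']⟩,
        ⟨c + d, W.add_mem hc hd, by rw [map_add, ← hc', ← hd']; abel⟩⟩
    | smul_mem c v hv =>
      obtain ⟨a, ha⟩ := hroot c
      obtain ⟨b, hb⟩ := hAS c
      have hv' : v ∈ W := Submodule.subset_span hv
      have hTv : T v = v := hv
      refine ⟨⟨a • v, W.smul_mem _ hv', ?_⟩, ⟨b • v, W.smul_mem _ hv', ?_⟩⟩
      · rw [LinearMap.map_smulₛₗ, hTv, iterateFrobenius_def, ha]
      · rw [LinearMap.map_smulₛₗ, hTv, iterateFrobenius_def, ← sub_smul, hb]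
  by_contra hne
  have hnt : Nontrivial (V ⧸ W) := Submodule.Quotient.nontrivial_iff.2 hne
  let T' : (V ⧸ W) →ₛₗ[iterateFrobenius K p f] (V ⧸ W) := Submodule.mapQ W W T hstab
  have hT' : Function.Injective T' := by
    rw [injective_iff_map_eq_zero]
    intro x hx
    obtain ⟨v, rfl⟩ := Submodule.Quotient.mk_surjective W x
    have hv : T v ∈ W := (Submodule.Quotient.mk_eq_zero W).1 hx
    obtain ⟨⟨y, hy, hy'⟩, -⟩ := hsurj _ hv
    rw [Submodule.Quotient.mk_eq_zero, ← hT hy']
    exact hy
  obtain ⟨x, hx0, hx⟩ := exists_fixed p f hf T' hT'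
  obtain ⟨v, rfl⟩ := Submodule.Quotient.mk_surjective W x
  have hv : T v - v ∈ W := (Submodule.Quotient.eq W).1 hx
  obtain ⟨-, ⟨y, hy, hy'⟩⟩ := hsurj _ hv
  apply hx0
  rw [Submodule.Quotient.mk_eq_zero]
  have hfix : v - y ∈ W := Submodule.subset_span (by
    show T (v - y) = v - y
    rw [map_sub, sub_eq_sub_iff_sub_eq_sub]
    exact hy'.symm)
  simpa using W.add_mem hfix hy

end Cfsg.Agent.Lang
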